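import Mathlib.RingTheory.HopfAlgebra.Quotient
import Mathlib.RingTheory.HopfAlgebra.Convolution
import Mathlib.RingTheory.Idempotents
import Mathlib.RingTheory.Ideal.GoingUp
import Mathlib.RingTheory.TensorProduct.Finite
import Groth.Prelude.Def_SGA3
import Groth.Agent.Hensel.Local

/-!
# The unit component of a finite group scheme over a local ring
-/

set_option autoImplicit false
universe u v w

open TensorProduct

namespace Groth.Agent.UnitComp

variable {R : Type u} [CommRing R] {A : Type v} [CommRing A] [HopfAlgebra R A] [Module.Finite R A]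
variable {e : A}


theorem le_ker_counit (hε : Bialgebra.counitAlgHom R A e = 1) :
    (Ideal.span ({1 - e} : Set A)) ≤ RingHom.ker (Bialgebra.counitAlgHom R A) :=
  (Ideal.span_singleton_le_iff_mem _).2 (by rw [RingHom.mem_ker, map_sub, map_one, hε, sub_self])

/-- the counit of the unit component -/
noncomputable def counitBar (hε : Bialgebra.counitAlgHom R A e = 1) : A ⧸ (Ideal.span ({1 - e} : Set A)) →ₐ[R] R :=
  Ideal.Quotient.liftₐ _ (Bialgebra.counitAlgHom R A) fun a ha => le_ker_counit hε ha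

@[simp] theorem counitBar_mk (hε : Bialgebra.counitAlgHom R A e = 1) (a : A) :
    counitBar hε (Ideal.Quotient.mk (Ideal.span ({1 - e} : Set A)) a) = Bialgebra.counitAlgHom R A a := rfl

theorem counitBar_surjective (hε : Bialgebra.counitAlgHom R A e = 1) : Function.Surjective (counitBar hε) :=
  fun r => ⟨algebraMap R _ r, AlgHom.commutes _ r⟩

theorem mk_eq_one : Ideal.Quotient.mk (Ideal.span ({1 - e} : Set A)) e = 1 :=
  (Ideal.Quotient.eq.2 (Ideal.mem_span_singleton_self (1 - e))).symm

variable [IsLocalRing (A ⧸ (Ideal.span ({1 - e} : Set A)))]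

theorem ker_counitBar_le_maximalIdeal (hε : Bialgebra.counitAlgHom R A e = 1) [Nontrivial R] :
    RingHom.ker (counitBar hε) ≤ IsLocalRing.maximalIdeal (A ⧸ (Ideal.span ({1 - e} : Set A))) :=
  IsLocalRing.le_maximalIdeal (RingHom.ker_ne_top _)

/-- an idempotent over the unit component which is one along the unit section is one -/
theorem idem_eq_one (hε : Bialgebra.counitAlgHom R A e = 1) {B : Type w} [CommRing B] [Algebra R B]
    [Module.Finite R B] {f : B ⊗[R] (A ⧸ (Ideal.span ({1 - e} : Set A)))} (hf : IsIdempotentElem f)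
    (h1 : Algebra.TensorProduct.rid R R B (Algebra.TensorProduct.map (AlgHom.id R B) (counitBar hε) f) = 1) :
    f = 1 := by
  rcases subsingleton_or_nontrivial R with hR | hR
  · haveI : Subsingleton (B ⊗[R] (A ⧸ (Ideal.span ({1 - e} : Set A)))) := Module.subsingleton R _
    exact Subsingleton.elim _ _
  let ρ : B ⊗[R] (A ⧸ (Ideal.span ({1 - e} : Set A))) →ₐ[R] B :=
    (Algebra.TensorProduct.rid R R B).toAlgHom.comp (Algebra.TensorProduct.map (AlgHom.id R B) (counitBar hε))
  let ι₂ : A ⧸ (Ideal.span ({1 - e} : Set A)) →ₐ[R] B ⊗[R] (A ⧸ (Ideal.span ({1 - e} : Set A))) := Algebra.TensorProduct.includeRight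
  let J : Ideal (B ⊗[R] (A ⧸ (Ideal.span ({1 - e} : Set A)))) := (RingHom.ker (counitBar hε)).map ι₂
  have hρ : ∀ z, z - (Algebra.TensorProduct.includeLeft : B →ₐ[R] B ⊗[R] (A ⧸ (Ideal.span ({1 - e} : Set A)))) (ρ z) ∈ J := by
    intro z
    induction z with
    | zero => simp
    | add x y hx hy => rw [map_add, map_add, add_sub_add_comm]; exact add_mem hx hy
    | tmul b a =>
      have : b ⊗ₜ[R] a - (Algebra.TensorProduct.includeLeft : B →ₐ[R] B ⊗[R] (A ⧸ (Ideal.span ({1 - e} : Set A)))) (ρ (b ⊗ₜ a)) =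
          (b ⊗ₜ[R] 1) * ι₂ (a - algebraMap R (A ⧸ (Ideal.span ({1 - e} : Set A))) (counitBar hε a)) := by
        simp [ρ, ι₂, TensorProduct.tmul_sub, Algebra.algebraMap_eq_smul_one, TensorProduct.tmul_smul,
          TensorProduct.smul_tmul', mul_sub]
      rw [this]
      refine Ideal.mul_mem_left _ _ (Ideal.mem_map_of_mem _ ?_)
      simp [RingHom.mem_ker]
  have hfJ : 1 - f ∈ J := by
    have h := neg_mem (hρ f)
    rw [show ρ f = 1 from h1, map_one, neg_sub] at h
    exact h
  refine sub_eq_zero.1 ?_ |>.symm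
  refine (show ∀ {x : B ⊗[R] (A ⧸ (Ideal.span ({1 - e} : Set A)))}, IsIdempotentElem x → IsUnit (1 - x) → x = 0 from
    fun hx hu => hu.mul_left_eq_zero.1 (by rw [mul_sub, mul_one, hx.eq, sub_self])) ?_ ?_
  · exact hf.one_sub
  · refine not_not.1 fun hu => ?_
    obtain ⟨P, hP, hfP⟩ := exists_max_ideal_of_mem_nonunits (mem_nonunits_iff.2 hu)
    haveI := hP
    haveI : Algebra.IsIntegral (A ⧸ (Ideal.span ({1 - e} : Set A))) ((A ⧸ (Ideal.span ({1 - e} : Set A))) ⊗[R] B) := inferInstance
    let σ : (A ⧸ (Ideal.span ({1 - e} : Set A))) ⊗[R] B →+* B ⊗[R] (A ⧸ (Ideal.span ({1 - e} : Set A))) := (Algebra.TensorProduct.comm R (A ⧸ (Ideal.span ({1 - e} : Set A))) B).toRingEquiv.toRingHom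
    haveI : (P.comap σ).IsMaximal := Ideal.comap_isMaximal_of_surjective σ (Algebra.TensorProduct.comm R (A ⧸ (Ideal.span ({1 - e} : Set A))) B).surjective
    have hmax : ((P.comap σ).comap (algebraMap (A ⧸ (Ideal.span ({1 - e} : Set A))) ((A ⧸ (Ideal.span ({1 - e} : Set A))) ⊗[R] B))).IsMaximal :=
      Ideal.isMaximal_comap_of_isIntegral_of_isMaximal _
    have hJP : J ≤ P := by
      refine Ideal.map_le_iff_le_comap.2 fun a ha => ?_
      have := (IsLocalRing.eq_maximalIdeal hmax).ge (ker_counitBar_le_maximalIdeal hε ha)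
      simpa [σ, ι₂, Algebra.TensorProduct.algebraMap_apply] using this
    exact hP.ne_top (P.eq_top_of_isUnit_mem (x := (1 - f) + f) (add_mem (hJP hfJ) (by simpa using hfP)) (by simp))

theorem flat_quotient (he : IsIdempotentElem e) [Module.Flat R A] : Module.Flat R (A ⧸ (Ideal.span ({1 - e} : Set A))) := by
  let r : A →ₗ[R] (A ⧸ (Ideal.span ({1 - e} : Set A))) := (Ideal.Quotient.mkₐ R (Ideal.span ({1 - e} : Set A))).toLinearMap
  have hker : (Ideal.span ({1 - e} : Set A)).restrictScalars R ≤ LinearMap.ker (LinearMap.mulLeft R e) := fun x hx => by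
    obtain ⟨c, rfl⟩ := Ideal.mem_span_singleton'.1 hx
    show e * (c * (1 - e)) = 0
    rw [mul_left_comm, mul_sub, mul_one, he.eq, sub_self, mul_zero]
  let i : (A ⧸ (Ideal.span ({1 - e} : Set A))) →ₗ[R] A := ((Ideal.span ({1 - e} : Set A)).restrictScalars R).liftQ (LinearMap.mulLeft R e) hker ∘ₗ
    (Submodule.Quotient.restrictScalarsEquiv R (Ideal.span ({1 - e} : Set A))).symm.toLinearMap
  refine Module.Flat.of_retract i r (LinearMap.ext fun x => ?_)
  obtain ⟨a, rfl⟩ := Ideal.Quotient.mk_surjective x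
  show Ideal.Quotient.mk (Ideal.span ({1 - e} : Set A)) (e * a) = Ideal.Quotient.mk (Ideal.span ({1 - e} : Set A)) a
  rw [map_mul, mk_eq_one, one_mul]

theorem isHopfIdeal (he : IsIdempotentElem e) (hε : Bialgebra.counitAlgHom R A e = 1) : ((Ideal.span ({1 - e} : Set A))).IsHopfIdeal R := by
  refine (Ideal.isHopfIdeal_iff _ _).2 ⟨⟨fun x hx => ?_, fun x hx => ?_⟩, fun x hx => ?_⟩
  · exact le_ker_counit hε hx
  · let π := Ideal.Quotient.mkₐ R (Ideal.span ({1 - e} : Set A))
    let f : (A ⧸ (Ideal.span ({1 - e} : Set A))) ⊗[R] (A ⧸ (Ideal.span ({1 - e} : Set A))) := (Algebra.TensorProduct.map π π) (Bialgebra.comulAlgHom R A e)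
    have hf : IsIdempotentElem f := (he.map (Bialgebra.comulAlgHom R A)).map _
    have h1 : Algebra.TensorProduct.rid R R (A ⧸ (Ideal.span ({1 - e} : Set A)))
        (Algebra.TensorProduct.map (AlgHom.id R (A ⧸ (Ideal.span ({1 - e} : Set A)))) (counitBar hε) f) = 1 := by
      have key : ∀ z : A ⊗[R] A, Algebra.TensorProduct.rid R R (A ⧸ (Ideal.span ({1 - e} : Set A)))
          (Algebra.TensorProduct.map (AlgHom.id R (A ⧸ (Ideal.span ({1 - e} : Set A)))) (counitBar hε) (Algebra.TensorProduct.map π π z)) =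
          π (TensorProduct.rid R A ((Coalgebra.counit (R := R) (A := A)).lTensor A z)) := by
        intro z
        induction z with
        | zero => simp
        | add x y hx hy => simp only [map_add, hx, hy]
        | tmul x y => simp [π]
      refine (key _).trans ?_
      simp [π, Coalgebra.lTensor_counit_comul, mk_eq_one]
    have hf1 := idem_eq_one hε hf h1
    obtain ⟨c, rfl⟩ := Ideal.mem_span_singleton'.1 (show x ∈ (Ideal.span ({1 - e} : Set A)) from hx)
    have h0 : (Algebra.TensorProduct.map π π) (Bialgebra.comulAlgHom R A (c * (1 - e))) = 0 := by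
      rw [map_mul, map_mul, map_sub, map_sub, map_one, map_one]
      show _ * (1 - f) = 0
      rw [hf1, sub_self, mul_zero]
    let eq := Submodule.Quotient.restrictScalarsEquiv R (Ideal.span ({1 - e} : Set A))
    refine (TensorProduct.congr eq eq).injective ?_
    rw [map_zero]
    refine Eq.trans ?_ h0
    show TensorProduct.map eq.toLinearMap eq.toLinearMap
      (TensorProduct.map _ _ (Coalgebra.comul (R := R) (c * (1 - e)))) = _
    rw [TensorProduct.map_map]
    rfl
  · let S := HopfAlgebra.antipodeAlgHom R A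
    let g : A ⧸ (Ideal.span ({1 - e} : Set A)) := Ideal.Quotient.mk (Ideal.span ({1 - e} : Set A)) (S e)
    have hg1 : g = 1 := by
      rcases IsLocalRing.isUnit_or_isUnit_one_sub_self g with h | h
      rotate_left
      · exfalso
        have h' : g = 0 := h.mul_left_eq_zero.1 (by rw [mul_sub, mul_one, (((he.map S).map _) : IsIdempotentElem g).eq, sub_self])
        have h0 := congrArg (counitBar hε) h'
        rw [map_zero, counitBar_mk, show Bialgebra.counitAlgHom R A (S e) = Bialgebra.counitAlgHom R A e from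
          HopfAlgebra.counit_antipode e, hε] at h0
        haveI : Subsingleton R := subsingleton_of_zero_eq_one h0.symm
        haveI : Subsingleton (A ⧸ (Ideal.span ({1 - e} : Set A))) := Module.subsingleton R _
        exact false_of_nontrivial_of_subsingleton (A ⧸ (Ideal.span ({1 - e} : Set A)))
      · exact h.mul_left_cancel ((((he.map S).map _) : IsIdempotentElem g).eq.trans (mul_one g).symm)
    obtain ⟨c, rfl⟩ := Ideal.mem_span_singleton'.1 (show x ∈ (Ideal.span ({1 - e} : Set A)) from hx)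
    show S (c * (1 - e)) ∈ (Ideal.span ({1 - e} : Set A))
    rw [map_mul, map_sub, map_one]
    refine Ideal.mul_mem_left _ _ ?_
    rw [← Ideal.Quotient.eq_zero_iff_mem, map_sub, map_one]
    exact sub_eq_zero.2 hg1.symm


theorem residue_surjective (hε : Bialgebra.counitAlgHom R A e = 1) [IsLocalRing R] :
    Function.Surjective (⇑(IsLocalRing.residue (A ⧸ (Ideal.span ({1 - e} : Set A)))) ∘ ⇑(algebraMap R (A ⧸ (Ideal.span ({1 - e} : Set A))))) := by
  intro z
  obtain ⟨a, rfl⟩ := IsLocalRing.residue_surjective z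
  refine ⟨counitBar hε a, ?_⟩
  show IsLocalRing.residue _ (algebraMap R _ (counitBar hε a)) = IsLocalRing.residue _ a
  refine (Ideal.Quotient.eq.2 ?_)
  exact IsLocalRing.le_maximalIdeal (RingHom.ker_ne_top _) (show _ ∈ RingHom.ker (counitBar hε) by simp)

theorem henselian [HenselianLocalRing R] : HenselianLocalRing (A ⧸ (Ideal.span ({1 - e} : Set A))) :=
  Groth.Agent.Hensel.henselianLocalRing_of_isIntegral (R := R) (A ⧸ (Ideal.span ({1 - e} : Set A)))

section Normal

open WithConv

variable {R : Type u} [CommRing R] {A : Type u} [CommRing A] [HopfAlgebra R A]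

theorem conv3_apply_eq {C : Type u} [CommRing C] [Algebra R C] (f g h : A →ₐ[R] C) :
    Dyn.conv3 R A f g h = (toConv f * toConv g * toConv h).ofConv := by
  ext a
  rw [AlgHom.convMul_apply]
  show (Algebra.TensorProduct.lmul' R) ((Algebra.TensorProduct.map _ h)
    (Algebra.TensorProduct.map (Bialgebra.comulAlgHom R A) (AlgHom.id R A) (Coalgebra.comul (R := R) a))) = _
  generalize Coalgebra.comul (R := R) a = z
  induction z with
  | zero => simp
  | tmul p q =>
    simp only [Algebra.TensorProduct.map_tmul, AlgHom.coe_comp, Function.comp_apply, AlgHom.id_apply,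
      Algebra.TensorProduct.lmul'_apply_tmul, Algebra.TensorProduct.lift_tmul]
    congr 1
  | add y z hy hz => simp only [map_add, hy, hz]

theorem comp_conv3 {C D : Type u} [CommRing C] [Algebra R C] [CommRing D] [Algebra R D] (φ : C →ₐ[R] D)
    (f g h : A →ₐ[R] C) : φ.comp (Dyn.conv3 R A f g h) = Dyn.conv3 R A (φ.comp f) (φ.comp g) (φ.comp h) := by
  rw [conv3_apply_eq, conv3_apply_eq, AlgHom.comp_convMul_distrib, AlgHom.comp_convMul_distrib]

theorem isNormal [Module.Finite R A] {e : A} [IsLocalRing (A ⧸ Ideal.span ({1 - e} : Set A))]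
    (he : IsIdempotentElem e) (hε : Bialgebra.counitAlgHom R A e = 1) :
    SGA3.IsNormalHopfIdeal R A (Ideal.span ({1 - e} : Set A)) := by
  intro C _ _ g h hh a ha
  let Q := A ⧸ Ideal.span ({1 - e} : Set A)
  let G : A →ₐ[R] A ⊗[R] Q := Algebra.TensorProduct.includeLeft
  let H : A →ₐ[R] A ⊗[R] Q := (Algebra.TensorProduct.includeRight : Q →ₐ[R] A ⊗[R] Q).comp (Ideal.Quotient.mkₐ R _)
  let G' : A →ₐ[R] A ⊗[R] Q := G.comp (HopfAlgebra.antipodeAlgHom R A)
  let ρ : A ⊗[R] Q →ₐ[R] A :=
    (Algebra.TensorProduct.rid R R A).toAlgHom.comp (Algebra.TensorProduct.map (AlgHom.id R A) (counitBar hε))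
  have hρG : ρ.comp G = AlgHom.id R A := AlgHom.ext fun x => by simp [ρ, G]
  have hρH : ρ.comp H = (1 : WithConv (A →ₐ[R] A)).ofConv := AlgHom.ext fun x => by
    simp [ρ, H, Q, AlgHom.convOne_def, Algebra.algebraMap_eq_smul_one]
  have hconj : ρ.comp (Dyn.conv3 R A G H G') = (1 : WithConv (A →ₐ[R] A)).ofConv := by
    rw [comp_conv3, conv3_apply_eq, hρG, hρH, toConv_ofConv, mul_one,
      show ρ.comp G' = HopfAlgebra.antipodeAlgHom R A by rw [← AlgHom.comp_assoc, hρG, AlgHom.id_comp]]
    refine congrArg WithConv.ofConv (?_ : _ = (1 : WithConv (A →ₐ[R] A)))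
    apply WithConv.ofConv_injective
    apply AlgHom.toLinearMap_injective
    apply WithConv.toConv_injective
    rw [AlgHom.toLinearMap_convMul, AlgHom.toLinearMap_convOne]
    simp [LinearMap.id_mul_antipode]
  have hf1 : Dyn.conv3 R A G H G' e = 1 := by
    refine idem_eq_one hε (he.map _) ?_
    have := DFunLike.congr_fun hconj e
    refine this.trans ?_
    simp [AlgHom.convOne_def, show Coalgebra.counit (R := R) e = 1 from hε]
  let hb : Q →ₐ[R] C := Ideal.Quotient.liftₐ _ h hh
  let φ : A ⊗[R] Q →ₐ[R] C := Algebra.TensorProduct.lift g hb fun _ _ => Commute.all _ _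
  have hφ : φ.comp (Dyn.conv3 R A G H G') = Dyn.conv3 R A g h (g.comp (HopfAlgebra.antipodeAlgHom R A)) := by
    have e1 : φ.comp G = g := AlgHom.ext fun x => by simp [φ, G]
    have e2 : φ.comp H = h := AlgHom.ext fun x => by simp [φ, H, hb, Q]
    rw [comp_conv3, e1, e2, ← AlgHom.comp_assoc, e1]
  rw [← hφ]
  obtain ⟨c, rfl⟩ := Ideal.mem_span_singleton'.1 ha
  rw [AlgHom.comp_apply, map_mul, map_sub, map_one, hf1, sub_self, mul_zero, map_zero]

end Normal

end Groth.Agent.UnitComp
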