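import Groth.Agent.UnitComp.Basic
import Mathlib.RingTheory.Etale.Descent
import Mathlib.RingTheory.Etale.Field

/-!
# Extensions of finite group schemes: the torsor isomorphism
-/

set_option autoImplicit false
universe u

open TensorProduct WithConv

namespace Groth.Agent.UnitComp

variable (R : Type u) [CommRing R] (A A'' : Type u) [CommRing A] [HopfAlgebra R A] [CommRing A'']
  [Bialgebra R A''] [Algebra A'' A] [IsScalarTower R A'' A]

/-- the ideal of the kernel of `Spec A → Spec A''` -/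
noncomputable abbrev kerFibre : Ideal A :=
  (RingHom.ker (Bialgebra.counitAlgHom R A'')).map (algebraMap A'' A)

/-- the inverse of a point -/
noncomputable def ptInv {R : Type u} [CommRing R] {A : Type u} [CommRing A] [HopfAlgebra R A] {C : Type u}
    [CommRing C] [Algebra R C] (x : WithConv (A →ₐ[R] C)) : WithConv (A →ₐ[R] C) :=
  toConv (x.ofConv.comp (HopfAlgebra.antipodeAlgHom R A))

theorem ptInv_mul {R : Type u} [CommRing R] {A : Type u} [CommRing A] [HopfAlgebra R A] {C : Type u}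
    [CommRing C] [Algebra R C] (x : WithConv (A →ₐ[R] C)) : ptInv x * x = 1 := by
  apply WithConv.ofConv_injective
  conv_lhs => rw [show x = toConv (x.ofConv.comp (AlgHom.id R A)) by simp]
  rw [ptInv, toConv_ofConv, ← ofConv_toConv (HopfAlgebra.antipodeAlgHom R A), ← ofConv_toConv (AlgHom.id R A)]
  erw [← AlgHom.comp_convMul_distrib, AlgHom.antipode_id_cancel]
  simp [AlgHom.convOne_def, ← AlgHom.comp_assoc, Algebra.comp_ofId]

theorem mul_ptInv {R : Type u} [CommRing R] {A : Type u} [CommRing A] [HopfAlgebra R A] {C : Type u}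
    [CommRing C] [Algebra R C] (x : WithConv (A →ₐ[R] C)) : x * ptInv x = 1 := by
  have h : x * ptInv x = x * ptInv x * (ptInv (ptInv x) * ptInv x) := by rw [ptInv_mul, mul_one]
  calc x * ptInv x = (ptInv (ptInv x) * ptInv x) * (x * ptInv x) := by rw [ptInv_mul, one_mul]
    _ = ptInv (ptInv x) * (ptInv x * x) * ptInv x := by simp only [mul_assoc]
    _ = 1 := by rw [ptInv_mul, mul_one, ptInv_mul]

theorem ptInv_mul_cancel_left {R : Type u} [CommRing R] {A : Type u} [CommRing A] [HopfAlgebra R A] {C : Type u}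
    [CommRing C] [Algebra R C] (x y : WithConv (A →ₐ[R] C)) : ptInv x * (x * y) = y := by
  rw [← mul_assoc, ptInv_mul, one_mul]

theorem conv_comp {C : Type u} [CommRing C] [Algebra R C]
    (hΔ : (Bialgebra.comulAlgHom R A).comp (IsScalarTower.toAlgHom R A'' A) =
      (Algebra.TensorProduct.map (IsScalarTower.toAlgHom R A'' A) (IsScalarTower.toAlgHom R A'' A)).comp
        (Bialgebra.comulAlgHom R A'')) (p q : WithConv (A →ₐ[R] C)) :
    (p * q).ofConv.comp (IsScalarTower.toAlgHom R A'' A) =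
      (toConv (p.ofConv.comp (IsScalarTower.toAlgHom R A'' A)) * toConv (q.ofConv.comp (IsScalarTower.toAlgHom R A'' A))).ofConv := by
  simp only [AlgHom.convMul_def, ofConv_toConv]
  rw [AlgHom.comp_assoc, AlgHom.comp_assoc, hΔ, ← AlgHom.comp_assoc (Algebra.TensorProduct.map p.ofConv q.ofConv),
    ← Algebra.TensorProduct.map_comp]

theorem exists_torsorEquiv
    (hΔ : (Bialgebra.comulAlgHom R A).comp (IsScalarTower.toAlgHom R A'' A) =
      (Algebra.TensorProduct.map (IsScalarTower.toAlgHom R A'' A) (IsScalarTower.toAlgHom R A'' A)).comp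
        (Bialgebra.comulAlgHom R A''))
    (hε : (Bialgebra.counitAlgHom R A).comp (IsScalarTower.toAlgHom R A'' A) = Bialgebra.counitAlgHom R A'') :
    Nonempty ((A ⊗[R] (A ⧸ kerFibre R A A'')) ≃ₐ[A] (A ⊗[A''] A)) := by
  let T := A ⊗[A''] A
  let iL : A →ₐ[R] T := (Algebra.TensorProduct.includeLeft : A →ₐ[A''] T).restrictScalars R
  let iR : A →ₐ[R] T := (Algebra.TensorProduct.includeRight : A →ₐ[A''] T).restrictScalars R
  let α := IsScalarTower.toAlgHom R A'' A
  have hLR : iR.comp α = iL.comp α := AlgHom.ext fun c => by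
    show (1 : A) ⊗ₜ[A''] algebraMap A'' A c = algebraMap A'' A c ⊗ₜ[A''] (1 : A)
    rw [Algebra.algebraMap_eq_smul_one, TensorProduct.tmul_smul, TensorProduct.smul_tmul']
  let γ : WithConv (A →ₐ[R] T) := ptInv (toConv iL) * toConv iR
  have hγ : ∀ a ∈ kerFibre R A A'', γ.ofConv a = 0 := by
    intro a ha
    refine (Ideal.map_le_iff_le_comap (K := RingHom.ker γ.ofConv)).2 (fun c hc => ?_) ha
    rw [Ideal.mem_comap, RingHom.mem_ker]
    show γ.ofConv.comp α c = 0
    rw [conv_comp R A A'' hΔ, ofConv_toConv, hLR, ← ofConv_toConv iL, ← conv_comp R A A'' hΔ, ofConv_toConv,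
      ptInv_mul, AlgHom.convOne_def, ofConv_toConv, AlgHom.comp_assoc, hε]
    show algebraMap R T (Bialgebra.counitAlgHom R A'' c) = 0
    rw [RingHom.mem_ker.1 hc, map_zero]
  let γb : A ⧸ kerFibre R A A'' →ₐ[R] T := Ideal.Quotient.liftₐ _ γ.ofConv hγ
  let Ψ : A ⊗[R] (A ⧸ kerFibre R A A'') →ₐ[A] T :=
    Algebra.TensorProduct.lift (Algebra.ofId A T) γb fun _ _ => Commute.all _ _
  let W := A ⊗[R] (A ⧸ kerFibre R A A'')
  let jL : A →ₐ[R] W := Algebra.TensorProduct.includeLeft
  let jR : A →ₐ[R] W :=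
    (Algebra.TensorProduct.includeRight : (A ⧸ kerFibre R A A'') →ₐ[R] W).comp (Ideal.Quotient.mkₐ R _)
  let δ : WithConv (A →ₐ[R] W) := toConv jL * toConv jR
  have hδ : δ.ofConv.comp α = jL.comp α := by
    have hR : jR.comp α = ((Algebra.ofId R W).comp (Bialgebra.counitAlgHom R A'')) := AlgHom.ext fun c => by
      have hc : α c - algebraMap R A (Bialgebra.counitAlgHom R A'' c) ∈ kerFibre R A A'' := by
        have h1 := Ideal.mem_map_of_mem (algebraMap A'' A)
          (I := RingHom.ker (Bialgebra.counitAlgHom R A''))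
          (x := c - algebraMap R A'' (Bialgebra.counitAlgHom R A'' c)) (by simp [RingHom.mem_ker])
        rwa [map_sub, ← IsScalarTower.algebraMap_apply] at h1
      show (Algebra.TensorProduct.includeRight : (A ⧸ kerFibre R A A'') →ₐ[R] W)
          (Ideal.Quotient.mk _ (α c)) = algebraMap R W _
      rw [Ideal.Quotient.eq.2 hc, Ideal.Quotient.mk_algebraMap]
      exact AlgHom.commutes _ _
    rw [conv_comp R A A'' hΔ, ofConv_toConv, ofConv_toConv, hR,
      show toConv ((Algebra.ofId R W).comp (Bialgebra.counitAlgHom R A'')) = (1 : WithConv (A'' →ₐ[R] W)) from rfl,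
      ]
    exact congrArg WithConv.ofConv (mul_one (toConv (jL.comp α) : WithConv (A'' →ₐ[R] W)))
  let δ' : A →ₐ[A''] W :=
    { δ.ofConv.toRingHom with commutes' := fun c => DFunLike.congr_fun hδ c }
  let Φ : T →ₐ[A] W := Algebra.TensorProduct.lift (Algebra.ofId A W) δ' fun _ _ => Commute.all _ _
  have hΦiL : (Φ.restrictScalars R).comp iL = jL := AlgHom.ext fun a => by
    show Φ (a ⊗ₜ[A''] (1 : A)) = jL a
    refine (Algebra.TensorProduct.lift_tmul _ _ _ _ _).trans ?_
    simp [jL, W, Algebra.TensorProduct.algebraMap_apply]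
  have hΦiR : (Φ.restrictScalars R).comp iR = δ.ofConv := AlgHom.ext fun a => by
    show Φ ((1 : A) ⊗ₜ[A''] a) = δ.ofConv a
    refine (Algebra.TensorProduct.lift_tmul _ _ _ _ _).trans ?_
    simp [δ']
  have hΦγ : (Φ.restrictScalars R).comp γ.ofConv = jR := by
    rw [AlgHom.comp_convMul_distrib, ofConv_toConv, hΦiR, toConv_ofConv,
      show toConv ((Φ.restrictScalars R).comp (ptInv (toConv iL)).ofConv) = ptInv (toConv jL) by
        rw [← hΦiL]; rfl]
    exact congrArg WithConv.ofConv (ptInv_mul_cancel_left (toConv jL : WithConv (A →ₐ[R] W)) (toConv jR))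
  have hΨjL : (Ψ.restrictScalars R).comp jL = iL := AlgHom.ext fun a => by
    show Ψ (a ⊗ₜ[R] 1) = a ⊗ₜ[A''] (1 : A)
    simp [Ψ, Algebra.TensorProduct.algebraMap_apply, T]
  have hΨjR : (Ψ.restrictScalars R).comp jR = γ.ofConv := AlgHom.ext fun a => by
    show Ψ ((1 : A) ⊗ₜ[R] Ideal.Quotient.mk _ a) = γ.ofConv a
    simp [Ψ, γb]
  have hΨδ : (Ψ.restrictScalars R).comp δ.ofConv = iR := by
    rw [AlgHom.comp_convMul_distrib, ofConv_toConv, ofConv_toConv, hΨjL, hΨjR, toConv_ofConv,
      ← mul_assoc, mul_ptInv, one_mul, ofConv_toConv]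
  refine ⟨AlgEquiv.ofAlgHom Ψ Φ ?_ ?_⟩
  · apply Algebra.TensorProduct.ext
    · exact Subsingleton.elim _ _
    · refine AlgHom.ext fun a => ?_
      show Ψ (Φ ((1 : A) ⊗ₜ[A''] a)) = (1 : A) ⊗ₜ[A''] a
      rw [show Φ ((1 : A) ⊗ₜ[A''] a) = δ.ofConv a from DFunLike.congr_fun hΦiR a]
      exact DFunLike.congr_fun hΨδ a
  · apply Algebra.TensorProduct.ext
    · exact Subsingleton.elim _ _
    · refine AlgHom.ext fun x => ?_
      obtain ⟨a, rfl⟩ := Ideal.Quotient.mk_surjective x
      show Φ (Ψ ((1 : A) ⊗ₜ[R] Ideal.Quotient.mk _ a)) = (1 : A) ⊗ₜ[R] Ideal.Quotient.mk _ a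
      rw [show Ψ ((1 : A) ⊗ₜ[R] Ideal.Quotient.mk _ a) = γ.ofConv a from DFunLike.congr_fun hΨjR a]
      exact DFunLike.congr_fun hΦγ a

variable [Module.Finite R A] [Module.Finite R A'']

theorem isLocalRing_of_extension
    [IsLocalRing A''] [IsLocalRing (A ⧸ kerFibre R A A'')] [Nontrivial R] : IsLocalRing A := by
  haveI : Algebra.IsIntegral A'' A := by
    haveI : Module.Finite A'' A := Module.Finite.of_restrictScalars_finite R A'' A
    infer_instance
  haveI : Nontrivial A := Ideal.Quotient.mk_surjective (I := kerFibre R A A'') |>.nontrivial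
  have hle : ∀ M : Ideal A, M.IsMaximal → kerFibre R A A'' ≤ M := fun M hM =>
    Ideal.map_le_iff_le_comap.2 ((IsLocalRing.le_maximalIdeal (RingHom.ker_ne_top _)).trans
      (IsLocalRing.eq_maximalIdeal (Ideal.isMaximal_comap_of_isIntegral_of_isMaximal M)).ge)
  refine IsLocalRing.of_unique_max_ideal ?_
  obtain ⟨M, hM⟩ := Ideal.exists_maximal A
  refine ⟨M, hM, fun N hN => ?_⟩
  have hsup : ∀ P : Ideal A, P.IsMaximal →
      P ⊔ RingHom.ker (Ideal.Quotient.mk (kerFibre R A A'')) = P := fun P hP =>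
    sup_eq_left.2 ((Ideal.mk_ker (I := kerFibre R A A'')).le.trans (hle P hP))
  have hmap : ∀ P : Ideal A, P.IsMaximal →
      P.map (Ideal.Quotient.mk (kerFibre R A A'')) = IsLocalRing.maximalIdeal _ := fun P hP =>
    IsLocalRing.eq_maximalIdeal
      ((Ideal.map_eq_top_or_isMaximal_of_surjective _ Ideal.Quotient.mk_surjective hP).resolve_left fun h => hP.ne_top (by
        rw [← (Ideal.comap_map_of_surjective' (Ideal.Quotient.mk (kerFibre R A A'')) Ideal.Quotient.mk_surjective P).trans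
          (hsup P hP), h, Ideal.comap_top]))
  have h1 := hmap N hN
  rw [← hmap M hM] at h1
  have h2 := congrArg (Ideal.comap (Ideal.Quotient.mk (kerFibre R A A''))) h1
  rwa [Ideal.comap_map_of_surjective' _ Ideal.Quotient.mk_surjective, Ideal.comap_map_of_surjective' _ Ideal.Quotient.mk_surjective,
    hsup N hN, hsup M hM] at h2

theorem etale_of_extension
    (hΔ : (Bialgebra.comulAlgHom R A).comp (IsScalarTower.toAlgHom R A'' A) =
      (Algebra.TensorProduct.map (IsScalarTower.toAlgHom R A'' A) (IsScalarTower.toAlgHom R A'' A)).comp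
        (Bialgebra.comulAlgHom R A''))
    (hε : (Bialgebra.counitAlgHom R A).comp (IsScalarTower.toAlgHom R A'' A) = Bialgebra.counitAlgHom R A'')
    [Module.FaithfullyFlat A'' A] [Algebra.Etale R A''] [Algebra.Etale R (A ⧸ kerFibre R A A'')] :
    Algebra.Etale R A := by
  obtain ⟨e⟩ := exists_torsorEquiv R A A'' hΔ hε
  haveI : Algebra.Etale A (A ⊗[A''] A) := Algebra.Etale.of_equiv e
  haveI : Algebra.Etale A'' A := Algebra.Etale.of_etale_tensorProduct_of_faithfullyFlat A
  exact Algebra.Etale.comp R A'' A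

end Groth.Agent.UnitComp
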